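import Mathlib.RingTheory.Henselian
import Mathlib.FieldTheory.IsSepClosed
import Mathlib.FieldTheory.IsAlgClosed.AlgebraicClosure
import Mathlib.RingTheory.IntegralClosure.IntegrallyClosed
import Mathlib.RingTheory.Ideal.GoingUp
import Mathlib.RingTheory.LocalRing.ResidueField.Ideal
import Mathlib.RingTheory.Localization.AtPrime.Basic
import Mathlib.RingTheory.Polynomial.Quotient

/-!
# Integrally closed domains with separably closed fraction field
-/

universe u

set_option autoImplicit false

open Polynomial

namespace Groth.Pi1Hensel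

variable (A : Type u) [CommRing A] [IsDomain A] [IsIntegrallyClosed A] [IsSepClosed (FractionRing A)]

/-- A root modulo a maximal ideal of the integral closure lifts to a root in `A` as soon as it is
simple. -/
theorem exists_root_lift [IsLocalRing A] (f : A[X]) (hf : f.Monic) {L : Type u} [Field L] [IsAlgClosed L]
    [Algebra (FractionRing A) L] [Algebra A L] [IsScalarTower A (FractionRing A) L]
    (b : L) (hb : aeval b f = 0) (hb' : aeval b (derivative f) ≠ 0) : ∃ a : A, algebraMap A L a = b := by
  set K := FractionRing A
  have hfb : aeval b (f.map (algebraMap A K)) = 0 := by rwa [aeval_map_algebraMap]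
  have hbint : IsIntegral A b := ⟨f, hf, by rwa [← aeval_def]⟩
  have hbK : IsIntegral K b := hbint.tower_top
  let P := minpoly K b
  have hP : Irreducible P := minpoly.irreducible hbK
  obtain ⟨Q, hQ⟩ := minpoly.dvd K b hfb
  have hP' : derivative P ≠ 0 := by
    intro h0
    apply hb'
    rw [← aeval_map_algebraMap K, ← derivative_map, hQ, derivative_mul, h0, zero_mul, zero_add,
      map_mul, minpoly.aeval, zero_mul]
  have hsep : P.Separable := (separable_iff_derivative_ne_zero hP).2 hP'
  have hdeg : P.degree = 1 := IsSepClosed.degree_eq_one_of_irreducible K hP hsep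
  obtain ⟨x, hx⟩ : ∃ x : K, algebraMap K L x = b := by
    have := minpoly.mem_range_of_degree_eq_one K b hdeg
    exact this
  have hxint : IsIntegral A x := by
    rw [← isIntegral_algebraMap_iff (R := A) (A := K) (B := L) (algebraMap K L).injective, hx]
    exact hbint
  obtain ⟨a, ha⟩ := IsIntegrallyClosed.isIntegral_iff.1 hxint
  exact ⟨a, by rw [IsScalarTower.algebraMap_apply A K L, ha, hx]⟩

open IsLocalRing

/-- Simple roots modulo the maximal ideal lift. -/
theorem exists_root_of_simple [IsLocalRing A] (f : A[X]) (hf : f.Monic) {κ : Type u} [Field κ] [IsAlgClosed κ]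
    [Algebra (ResidueField A) κ] [Algebra A κ] [IsScalarTower A (ResidueField A) κ]
    (z : κ) (hz : aeval z f = 0) (hz' : aeval z (derivative f) ≠ 0) :
    ∃ a : A, f.IsRoot a ∧ algebraMap A κ a = z := by
  classical
  let L := AlgebraicClosure (FractionRing A)
  let B := integralClosure A L
  have : FaithfulSMul A L := by
    rw [faithfulSMul_iff_algebraMap_injective, IsScalarTower.algebraMap_eq A (FractionRing A) L]
    exact (algebraMap (FractionRing A) L).injective.comp (IsFractionRing.injective A (FractionRing A))
  have hinj : Function.Injective (algebraMap A B) := fun x y h =>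
    FaithfulSMul.algebraMap_injective A L (congrArg Subtype.val h)
  have : Algebra.IsIntegral A B := integralClosure.AlgebraIsIntegral
  obtain ⟨M, hM, hMA⟩ := Ideal.exists_ideal_over_maximal_of_isIntegral (S := B) (maximalIdeal A)
    (by rw [(RingHom.injective_iff_ker_eq_bot _).1 hinj]; exact bot_le)
  -- the residue field of `M` embeds in `κ`
  let _ := Ideal.Quotient.field M
  let _ : Algebra (ResidueField A) (B ⧸ M) := Ideal.Quotient.algebraQuotientOfLEComap (le_of_eq hMA.symm)
  have : IsScalarTower A (ResidueField A) (B ⧸ M) := IsScalarTower.of_algebraMap_eq' rfl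
  have : Algebra.IsIntegral A (B ⧸ M) := Algebra.IsIntegral.of_surjective
    (Ideal.Quotient.mkₐ A M) (Ideal.Quotient.mkₐ_surjective A M)
  have : Algebra.IsAlgebraic (ResidueField A) (B ⧸ M) :=
    Algebra.isAlgebraic_iff_isIntegral.2 (Algebra.IsIntegral.tower_top A)
  let ι : (B ⧸ M) →ₐ[ResidueField A] κ := IsAlgClosed.lift
  let φ : B →ₐ[A] κ := (ι.restrictScalars A).comp (Ideal.Quotient.mkₐ A M)
  -- `f` splits over `B`
  have hsplit : (f.map (algebraMap A L)).Splits := IsAlgClosed.splits _
  let R := (f.map (algebraMap A L)).roots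
  have hRint : ∀ r ∈ R, IsIntegral A r := fun r hr => by
    refine ⟨f, hf, ?_⟩
    have := (mem_roots'.1 hr).2
    rwa [IsRoot, eval_map] at this
  let RB : Multiset B := R.attach.map fun r => ⟨r.1, hRint r.1 r.2⟩
  have hprod : f.map (algebraMap A B) = (RB.map fun b => X - C b).prod := by
    apply map_injective B.val.toRingHom Subtype.val_injective
    rw [map_map, Polynomial.map_multiset_prod, Multiset.map_map, Multiset.map_map]
    have h1 : B.val.toRingHom.comp (algebraMap A B) = algebraMap A L := rfl
    rw [h1, hsplit.eq_prod_roots_of_monic (hf.map _)]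
    congr 1
    conv_lhs => rw [← Multiset.attach_map_val (f.map (algebraMap A L)).roots]
    rw [Multiset.map_map]
    refine Multiset.map_congr rfl fun r _ => ?_
    simp
  have hev : aeval z f = (RB.map fun b => z - φ b).prod := by
    rw [aeval_def, show algebraMap A κ = (φ : B →+* κ).comp (algebraMap A B) from (φ.comp_algebraMap).symm,
      ← eval₂_map, hprod, eval₂_eq_eval_map, Polynomial.map_multiset_prod, eval_multiset_prod, Multiset.map_map,
      Multiset.map_map]
    refine congrArg _ (Multiset.map_congr rfl fun b _ => ?_)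
    simp
  rw [hz, eq_comm, Multiset.prod_eq_zero_iff, Multiset.mem_map] at hev
  obtain ⟨b, hb, hbz⟩ := hev
  rw [sub_eq_zero] at hbz
  have hbf : aeval b f = 0 := by
    rw [aeval_def, ← eval_map, hprod, eval_multiset_prod, Multiset.prod_eq_zero_iff, Multiset.mem_map]
    exact ⟨X - C b, Multiset.mem_map.2 ⟨b, hb, rfl⟩, by simp⟩
  have hb' : aeval (b : L) (derivative f) ≠ 0 := by
    intro h0
    apply hz'
    have h1 : aeval b (derivative f) = 0 := Subtype.ext (by
      rw [← Subalgebra.coe_val, ← aeval_algHom_apply]; exact h0)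
    rw [hbz, aeval_algHom_apply, h1, map_zero]
  have hbL : aeval (b : L) f = 0 := by
    rw [← Subalgebra.coe_val, aeval_algHom_apply, hbf, map_zero]
  obtain ⟨a, ha⟩ := exists_root_lift A f hf (b : L) hbL hb'
  have hab : algebraMap A B a = b := Subtype.ext ha
  refine ⟨a, ?_, ?_⟩
  · apply hinj
    rw [map_zero, ← hbf, ← hab, aeval_algebraMap_apply, coe_aeval_eq_eval]
  · rw [hbz, ← hab, AlgHom.commutes]

/-- `A` is henselian. -/
theorem henselianLocalRing [IsLocalRing A] : HenselianLocalRing A := by
  refine ⟨fun f hf a₀ h0 h1 => ?_⟩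
  let κ := AlgebraicClosure (ResidueField A)
  have hres : ∀ g : A[X], aeval (algebraMap A κ a₀) g = algebraMap (ResidueField A) κ (residue A (g.eval a₀)) := fun g => by
    rw [aeval_algebraMap_apply, coe_aeval_eq_eval, IsScalarTower.algebraMap_apply A (ResidueField A) κ]
    rfl
  obtain ⟨a, ha, haz⟩ := exists_root_of_simple A f hf (algebraMap A κ a₀)
    (by rw [hres, residue_eq_zero_iff _ |>.2 h0, map_zero])
    (by
      rw [hres, _root_.map_ne_zero]
      exact (residue_ne_zero_iff_isUnit _).2 h1)
  refine ⟨a, ha, ?_⟩
  rw [← residue_eq_zero_iff, map_sub, sub_eq_zero]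
  apply (algebraMap (ResidueField A) κ).injective
  rw [IsScalarTower.algebraMap_apply A (ResidueField A) κ, IsScalarTower.algebraMap_apply A (ResidueField A) κ] at haz
  exact haz

/-- The residue field is separably closed. -/
theorem isSepClosed_residueField [IsLocalRing A] : IsSepClosed (ResidueField A) := by
  refine IsSepClosed.of_exists_root _ fun q hq hirr hsep => ?_
  let κ := AlgebraicClosure (ResidueField A)
  obtain ⟨f, hf, -, hfm⟩ := lifts_and_degree_eq_and_monic (f := residue A) (p := q)
    (by rw [Polynomial.mem_lifts]; exact Polynomial.map_surjective _ residue_surjective q) hq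
  obtain ⟨z, hz⟩ := IsAlgClosed.exists_aeval_eq_zero κ q (degree_pos_of_irreducible hirr).ne'
  have hsep' : aeval z (derivative q) ≠ 0 := hsep.aeval_derivative_ne_zero hz
  have hres : (algebraMap A (ResidueField A)) = residue A := rfl
  obtain ⟨a, ha, -⟩ := exists_root_of_simple A f hfm z
    (by rw [← aeval_map_algebraMap (ResidueField A), hres, hf, hz])
    (by rw [← aeval_map_algebraMap (ResidueField A), ← derivative_map, hres, hf]; exact hsep')
  refine ⟨residue A a, ?_⟩
  rw [← hf, eval_map, eval₂_at_apply, ha.eq_zero, map_zero]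

/-- The residue field at a nonzero maximal ideal is algebraically closed. -/
theorem isAlgClosed_residueField [IsLocalRing A] (hA : maximalIdeal A ≠ ⊥) : IsAlgClosed (ResidueField A) := by
  refine IsAlgClosed.of_exists_root _ fun q hq hirr => ?_
  obtain ⟨f, hf, hdeg, hfm⟩ := lifts_and_degree_eq_and_monic (f := residue A) (p := q)
    (by rw [Polynomial.mem_lifts]; exact Polynomial.map_surjective _ residue_surjective q) hq
  by_cases hq0 : q.eval 0 = 0
  · exact ⟨0, hq0⟩
  set K := FractionRing A
  have hf0 : f.eval 0 ≠ 0 := fun h => hq0 (by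
    rw [← hf, eval_map, ← map_zero (residue A), eval₂_at_apply, h, map_zero])
  let g := f.map (algebraMap A K)
  let h := g - X * derivative g
  have hh : h ≠ 0 := fun e => hf0 (IsFractionRing.injective A K (by
    have := congrArg (fun p : K[X] => p.eval 0) e
    simp only [h, eval_sub, eval_mul, eval_X, zero_mul, sub_zero, eval_zero, g, eval_map] at this
    rw [map_zero, ← eval₂_at_apply, map_zero]; exact this))
  let L := AlgebraicClosure K
  let bad : Set L := (fun x => -aeval x (derivative g)) '' (h.rootSet L)
  have hbad : bad.Finite := (h.rootSet_finite L).image _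
  have hmi : (maximalIdeal A : Set A).Infinite := by
    obtain ⟨c, hc, hc0⟩ := Submodule.exists_mem_ne_zero_of_ne_bot hA
    have : Infinite A := by
      by_contra hfin
      rw [not_infinite_iff_finite] at hfin
      exact hA (isField_iff_maximalIdeal_eq.1 (Finite.isField_of_domain A))
    refine (Set.infinite_range_of_injective (fun x y (hxy : x * c = y * c) => mul_right_cancel₀ hc0 hxy)).mono ?_
    rintro _ ⟨x, rfl⟩
    exact Ideal.mul_mem_left _ x hc
  have hinjL : Function.Injective (algebraMap A L) := by
    rw [IsScalarTower.algebraMap_eq A K L]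
    exact (algebraMap K L).injective.comp (IsFractionRing.injective A K)
  have : FaithfulSMul A L := (faithfulSMul_iff_algebraMap_injective A L).2 hinjL
  obtain ⟨c, hc, hcbad⟩ := (hmi.sdiff (hbad.preimage hinjL.injOn)).nonempty
  let F := f + C c * X
  have hdF : 1 < f.natDegree ∨ f.natDegree = 1 := by
    have : f.natDegree = q.natDegree := natDegree_eq_of_degree_eq hdeg
    have := (Irreducible.natDegree_pos hirr)
    omega
  rcases hdF with hdF | hdF
  swap
  · obtain ⟨x, hx⟩ := exists_root_of_degree_eq_one (p := q) (by
      rw [degree_eq_natDegree hq.ne_zero, ← natDegree_eq_of_degree_eq hdeg, hdF]; rfl)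
    exact ⟨x, hx⟩
  have hFm : F.Monic := hfm.add_of_left (lt_of_le_of_lt (degree_C_mul_X_le c) (by
    rw [degree_eq_natDegree hfm.ne_zero]; exact_mod_cast hdF))
  obtain ⟨b, hb⟩ := IsAlgClosed.exists_aeval_eq_zero L F (by
    rw [degree_eq_natDegree hFm.ne_zero, show F.natDegree = f.natDegree from
      natDegree_add_eq_left_of_natDegree_lt (lt_of_le_of_lt (natDegree_C_mul_le c X) (by rwa [natDegree_X]))]
    exact_mod_cast (by omega : f.natDegree ≠ 0))
  have hFev : aeval b F = aeval b g + algebraMap A L c * b := by simp [F, g]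
  have hFev' : aeval b (derivative F) = aeval b (derivative g) + algebraMap A L c := by
    simp [F, g, derivative_map]
  have hb' : aeval b (derivative F) ≠ 0 := by
    intro h0
    refine hcbad ⟨b, ?_, ?_⟩
    · rw [mem_rootSet]
      refine ⟨hh, ?_⟩
      simp only [h, map_sub, map_mul, aeval_X]
      linear_combination (hFev ▸ hb : aeval b g + algebraMap A L c * b = 0) - b * (hFev' ▸ h0 : aeval b (derivative g) + algebraMap A L c = 0)
    · linear_combination -(hFev' ▸ h0 : aeval b (derivative g) + algebraMap A L c = 0)
  obtain ⟨a, ha⟩ := exists_root_lift A F hFm b hb hb'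
  refine ⟨residue A a, ?_⟩
  have h1 : F.eval a = 0 := hinjL (by rw [map_zero, ← hb, ← ha, aeval_algebraMap_apply, coe_aeval_eq_eval])
  have h2 : residue A c = 0 := (residue_eq_zero_iff c).2 hc
  have h3 := congrArg (residue A) h1
  simp only [F, eval_add, eval_mul, eval_C, eval_X, map_add, map_mul, h2, zero_mul, add_zero, map_zero] at h3
  rw [← hf, eval_map, eval₂_at_apply, h3]

end Groth.Pi1Hensel
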